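import Groth.Agent.VarReg31.Slice
import Groth.Agent.Lib.Euler
import Groth.Agent.QCoh.Devissage
import Groth.Agent.SurfInt.Basic
import Groth.Agent.S17630

/-!
# Mumford's bound on the regularity of subsheaves of a regular module
-/

set_option linter.style.haveILetI false
set_option linter.unusedSectionVars false
set_option backward.isDefEq.respectTransparency false
set_option backward.isDefEq.respectTransparency.types false
set_option maxHeartbeats 1000000

universe u

open CategoryTheory CategoryTheory.Limits AlgebraicGeometry TopologicalSpace Opposite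
open Groth.Agent.PnCoh.Finite (mapLin)

noncomputable section

namespace Groth.Agent.VarReg31

open Groth.Agent Groth.Agent.Pic13Lib

variable (k : Type u) [Field k] (n : ℕ)

/-- `χ(G(t))`. -/
def chiAt (G : (CohB1.ProjSpace n k).Modules) (t : ℤ) : ℤ :=
  Curv2.euler k (CohB1.ProjSpace n k) ((twFun t).obj G)

variable {k n}

instance isProperP : IsProper (CohB1.ProjSpace n k ↘ Spec (CommRingCat.of k)) := PnCoh.Chow.isProper_toSpec n k

theorem chiAt_add {S : ShortComplex (CohB1.ProjSpace n k).Modules} (hS : S.ShortExact)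
    (h1 : Coh.IsCoh S.X₁) (h2 : Coh.IsCoh S.X₂) (h3 : Coh.IsCoh S.X₃) (t : ℤ) :
    chiAt k n S.X₂ t = chiAt k n S.X₁ t + chiAt k n S.X₃ t := by
  haveI := PnCoh.Chow.isProper_toSpec n k
  exact Euler.euler_add k (S := S.map (twFun t)) (shortExact_twFun t hS) (isCoh_twFun h1 t) (isCoh_twFun h2 t)
    (isCoh_twFun h3 t)

/-- The sequence `0 → G(-1) → G → G/aG → 0`. -/
theorem shortExact_cut (a : Forms k n) {G : (CohB1.ProjSpace n k).Modules} (hm : Mono ((mulNat a).app G)) :
    (ShortComplex.mk ((mulNat a).app G) (cokernel.π ((mulNat a).app G)) (cokernel.condition _)).ShortExact :=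
  { exact := ShortComplex.exact_of_g_is_cokernel _ (cokernelIsCokernel _)
    mono_f := hm
    epi_g := inferInstance }

theorem isCoh_cut (a : Forms k n) {G : (CohB1.ProjSpace n k).Modules} (hG : Coh.IsCoh G) :
    Coh.IsCoh (cokernel ((mulNat a).app G)) :=
  haveI := isLocallyNoetherian_projSpace k n
  QCoh.isCoh_cokernel (isCoh_twFun hG (-1)).1 hG _

theorem chiAt_cut (a : Forms k n) {G : (CohB1.ProjSpace n k).Modules} (hG : Coh.IsCoh G)
    (hm : Mono ((mulNat a).app G)) (t : ℤ) :
    chiAt k n (cokernel ((mulNat a).app G)) t = chiAt k n G t - chiAt k n G (t - 1) := by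
  haveI := PnCoh.Chow.isProper_toSpec n k
  have h : chiAt k n G t = chiAt k n ((twFun (-1)).obj G) t + chiAt k n (cokernel ((mulNat a).app G)) t :=
    chiAt_add (shortExact_cut a hm) (isCoh_twFun hG (-1)) hG (isCoh_cut a hG) t
  obtain ⟨c⟩ := twFun_twFun G (-1) t
  have e : chiAt k n ((twFun (-1)).obj G) t = chiAt k n G (t - 1) := by
    rw [chiAt, chiAt, show t - 1 = -1 + t by ring]
    exact Euler.euler_congr k c
  rw [e] at h
  omega

/-- For a `0`-regular module `χ(A(t)) = h⁰(A(t))` for `t ≥ -1`. -/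
theorem chiAt_eq_h0 {A : (CohB1.ProjSpace n k).Modules} (hA : Coh.IsCoh A)
    (hreg : Curv2.IsMRegular k n A 0) {t : ℤ} (ht : -1 ≤ t) :
    chiAt k n A t = Module.finrank k (Coh.HH (CohB1.ProjSpace n k) ((twFun t).obj A) 0) := by
  rw [chiAt, Euler.euler_eq_sum k _ 1 fun i hi => vanish_of_regular hA hreg hi (by omega)]
  simp

theorem isMRegular_mono {A : (CohB1.ProjSpace n k).Modules} (hA : Coh.IsCoh A) {m m' : ℤ}
    (h : Curv2.IsMRegular k n A m) (hmm : m ≤ m') : Curv2.IsMRegular k n A m' := by
  obtain ⟨e, rfl⟩ := Int.le.dest hmm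
  exact ProjRegular.isMRegular_add hA h e

/-- The bound on `h¹` of a submodule in terms of the hyperplane section. -/
theorem regular_from_slice (a : Forms k n) {A K : (CohB1.ProjSpace n k).Modules} (φ : K ⟶ A) [Mono φ]
    (hA : Coh.IsCoh A) (hK : Coh.IsCoh K) (hreg : Curv2.IsMRegular k n A 0)
    (mK : Mono ((mulNat a).app K)) {m₀ : ℤ} (h1 : 1 ≤ m₀)
    (hGm : Curv2.IsMRegular k n (cokernel ((mulNat a).app K)) m₀) :
    Curv2.IsMRegular k n K (m₀ + (chiAt k n A (m₀ - 1) - chiAt k n K (m₀ - 1)).toNat) := by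
  haveI := isLocallyNoetherian_projSpace k n
  have hK' := isCoh_cut a hK
  have hC : Coh.IsCoh (cokernel φ) := QCoh.isCoh_cokernel hK.1 hA φ
  have high : ∀ q : ℕ, 2 ≤ q → ∀ d : ℤ, m₀ - q ≤ d →
      Subsingleton (Coh.HH (CohB1.ProjSpace n k) ((twFun d).obj K) q) := fun q hq d hd =>
    subsingleton_two_le (F := K) (G := cokernel ((mulNat a).app K)) (shortExact_cut a mK) (Iso.refl _)
      (Iso.refl _) (Iso.refl _) hK hK' hGm q hq d hd
  let S := ShortComplex.mk φ (cokernel.π φ) (cokernel.condition φ)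
  have hS : S.ShortExact :=
    { exact := ShortComplex.exact_of_g_is_cokernel _ (cokernelIsCokernel _)
      mono_f := ‹Mono φ›
      epi_g := inferInstance }
  have hb : (Module.finrank k (Coh.HH (CohB1.ProjSpace n k) ((twFun (m₀ - 1)).obj K) 1) : ℤ) ≤
      chiAt k n A (m₀ - 1) - chiAt k n K (m₀ - 1) := by
    have e2 : chiAt k n K (m₀ - 1) =
        (Module.finrank k (Coh.HH (CohB1.ProjSpace n k) ((twFun (m₀ - 1)).obj K) 0) : ℤ) -
          Module.finrank k (Coh.HH (CohB1.ProjSpace n k) ((twFun (m₀ - 1)).obj K) 1) := by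
      rw [chiAt, Euler.euler_eq_sum k _ 2 fun i hi => high i hi (m₀ - 1) (by omega)]
      simp [Finset.sum_range_succ, sub_eq_add_neg]
    have e0 : Module.finrank k (Coh.HH (CohB1.ProjSpace n k) ((twFun (m₀ - 1)).obj K) 0) ≤
        Module.finrank k (Coh.HH (CohB1.ProjSpace n k) ((twFun (m₀ - 1)).obj A) 0) :=
      (S17630.bounds k (S := S.map (twFun (m₀ - 1))) (shortExact_twFun (m₀ - 1) hS)
        (isCoh_twFun (G := K) hK _) (isCoh_twFun (G := A) hA _) (isCoh_twFun (G := cokernel φ) hC _) 0).2.1
    rw [e2, chiAt_eq_h0 hA hreg (by omega)]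
    omega
  intro q hq hqn
  rcases Nat.lt_or_ge q 2 with hq2 | hq2
  · obtain rfl : q = 1 := by omega
    exact h1_vanish (F := K) (G := cokernel ((mulNat a).app K)) (shortExact_cut a mK) (Iso.refl _)
      (Iso.refl _) (Iso.refl _) hK hK' hGm _ (by omega)
  · exact high q hq2 _ (by omega)

variable [Infinite k]

/-- Subsheaves with prescribed Hilbert function of a `0`-regular module are uniformly regular. -/
theorem exists_regularity (e : ℕ) : ∀ (c : ℤ) (R Q : ℤ → ℤ), ∃ m : ℤ,
    ∀ (A K : (CohB1.ProjSpace n k).Modules) (φ : K ⟶ A), Mono φ → Coh.IsCoh A → Coh.IsCoh K →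
      Curv2.IsMRegular k n A 0 → topologicalKrullDim ↥(CohB1.support A) < (e : WithBot ℕ∞) →
      (∀ t, c ≤ t → chiAt k n A t = R t) → (∀ t, c ≤ t → chiAt k n K t = Q t) →
      Curv2.IsMRegular k n K m := by
  haveI := isLocallyNoetherian_projSpace k n
  induction e with
  | zero =>
    refine fun c R Q => ⟨0, fun A K φ _ hA hK _ hdim _ _ i _ _ => ?_⟩
    haveI : IsEmpty ↥(CohB1.support A) := by
      rw [Set.isEmpty_coe_sort]
      exact SurfInt.eq_empty_of_dim_lt_zero (by simpa using hdim)
    have hAz : IsZero A := QCoh.isZero_of_app_eq_zero hA.1 fun W s =>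
      TopCat.Presheaf.section_ext ⟨A.presheaf, A.isSheaf⟩ _ _ _ fun y hy => by
        haveI : Subsingleton (A.presheaf.stalk y) :=
          not_not.1 fun hy' => IsEmpty.false (⟨y, hy'⟩ : ↥(CohB1.support A))
        exact Subsingleton.elim _ _
    haveI := PnCoh.Chow.isProper_toSpec n k
    exact Euler.subsingleton_HH_of_isZero
      ((twFun (0 - (i : ℤ))).map_isZero (IsZero.of_mono φ hAz)) i
  | succ e ih =>
    intro c R Q
    obtain ⟨m₁, hm₁⟩ := ih (c + 1) (fun t => R t - R (t - 1)) (fun t => Q t - Q (t - 1))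
    let m₀ : ℤ := max m₁ (max 1 (c + 1))
    refine ⟨m₀ + (R (m₀ - 1) - Q (m₀ - 1)).toNat, fun A K φ hφ hA hK hreg hdim hR hQ => ?_⟩
    have h1 : 1 ≤ m₀ := le_max_of_le_right (le_max_left _ _)
    have hc : c + 1 ≤ m₀ := le_max_of_le_right (le_max_right _ _)
    let S := ShortComplex.mk φ (cokernel.π φ) (cokernel.condition φ)
    have hS : S.ShortExact :=
      { exact := ShortComplex.exact_of_g_is_cokernel _ (cokernelIsCokernel _)
        mono_f := hφ
        epi_g := inferInstance }
    have hC : Coh.IsCoh S.X₃ := QCoh.isCoh_cokernel hK.1 hA φ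
    let Z : Set (CohB1.ProjSpace n k) := CohB1.support A
    have hZ : IsClosed Z := QCoh.isClosed_support_of_isFT hA.1 hA.2
    haveI : IsNoetherian (CohB1.ProjSpace n k) :=
      haveI := PnCoh.Chow.isProper_toSpec n k
      CurveCohLib.isNoetherian_of_proper (k := k)
    haveI : QuasiSober ↥Z := hZ.isClosedEmbedding_subtypeVal.quasiSober
    haveI : NoetherianSpace ↥Z := Topology.IsInducing.subtypeVal.noetherianSpace
    have hgen : (Subtype.val '' genericPoints ↥Z).Finite :=
      (genericPoints.finite NoetherianSpace.finite_irreducibleComponents).image _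
    obtain ⟨a, ha⟩ := exists_avoid (k := k) (n := n)
      (((finite_weakAss hA).union (finite_weakAss hK)).union ((finite_weakAss hC).union hgen))
    have mA : Mono ((mulNat a).app A) := mono_mulNat a hA fun y hy => ha y (.inl (.inl hy))
    have mK : Mono ((mulNat a).app K) := mono_mulNat a hK fun y hy => ha y (.inl (.inr hy))
    have mC : Mono ((mulNat a).app S.X₃) := mono_mulNat a hC fun y hy => ha y (.inr (.inl hy))
    have hA' := isCoh_cut a hA
    have hK' := isCoh_cut a hK
    have hregA' : Curv2.IsMRegular k n (cokernel ((mulNat a).app A)) 0 :=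
      @S16627.result k _ n A hA 0 hreg ((mulNat a).app A) mA
    have hsub : CohB1.support (cokernel ((mulNat a).app A)) ⊆ Z :=
      QCoh.support_of_epi hA.1 hA'.1 (cokernel.π _)
    have hdim' : topologicalKrullDim ↥(CohB1.support (cokernel ((mulNat a).app A))) < (e : WithBot ℕ∞) := by
      let W : Set ↥Z := Subtype.val ⁻¹' CohB1.support (cokernel ((mulNat a).app A))
      have hW : IsClosed W :=
        (QCoh.isClosed_support_of_isFT hA'.1 hA'.2).preimage continuous_subtype_val
      have hlt := dim_lt_of_no_generic hW hdim fun x hx hxW =>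
        notMem_support_cokernel_mulNat a A (ha x.1 (.inr (.inr ⟨x, hx, rfl⟩))) hxW
      let g : ↥(CohB1.support (cokernel ((mulNat a).app A))) → ↥W := fun p => ⟨⟨p.1, hsub p.2⟩, p.2⟩
      have hg : Continuous g := (continuous_subtype_val.subtype_mk _).subtype_mk _
      have hind : Topology.IsInducing g := ((Topology.IsInducing.subtypeVal (t := Z)).comp
        (Topology.IsInducing.subtypeVal (t := W))).of_comp_iff.1
          Topology.IsInducing.subtypeVal
      exact lt_of_le_of_lt hind.topologicalKrullDim_le hlt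
    have hGm : Curv2.IsMRegular k n (cokernel ((mulNat a).app K)) m₀ :=
      isMRegular_mono hK' (hm₁ (cokernel ((mulNat a).app A)) (cokernel ((mulNat a).app K))
        (cokernel.map ((mulNat a).app K) ((mulNat a).app A) ((twFun (-1)).map φ) φ ((mulNat a).naturality φ).symm)
        (mono_cutMap (S := S) a hS mC) hA' hK' hregA' hdim'
        (fun t ht => by rw [chiAt_cut a hA mA, hR t (by omega), hR (t - 1) (by omega)])
        (fun t ht => by rw [chiAt_cut a hK mK, hQ t (by omega), hQ (t - 1) (by omega)])) (le_max_left _ _)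
    rw [← hR (m₀ - 1) (by omega), ← hQ (m₀ - 1) (by omega)]
    exact regular_from_slice a φ hA hK hreg mK h1 hGm

end Groth.Agent.VarReg31
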