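import Groth.Agent.Pic13Lib.Sequence
import Groth.Agent.Lib.CurveVanish
import Groth.Agent.PnCoh.Finite.SerreVanishing
import Groth.Agent.Snapper.DimVanish
import Groth.Agent.HilbPoly.Poly
import Groth.Agent.Lib.Euler
import Groth.Agent.VarReg31.Mumford
import Groth.Agent.AmpleVan.Pull
import Groth.Agent.VarAmp.Integral

/-!
# Regularity through a complex with small homology
-/

set_option linter.style.haveILetI false
set_option linter.unusedSectionVars false
set_option backward.isDefEq.respectTransparency false
set_option backward.isDefEq.respectTransparency.types false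
set_option maxHeartbeats 800000

universe u

open CategoryTheory CategoryTheory.Limits AlgebraicGeometry TopologicalSpace

noncomputable section

namespace Groth.Agent.VarReg31

open Groth.Agent Groth.Agent.Pic13Lib

variable {k : Type u} [Field k] {n : ℕ}

/-- The sequence of cycles and homology at `K.X₂` through the image of `K.f`. -/
theorem shortExact_image_cycles {C : Type*} [Category* C] [Abelian C] (K : ShortComplex C) :
    ∃ (f : Abelian.image K.f ⟶ K.cycles) (w : f ≫ K.homologyπ = 0),
      (ShortComplex.mk f K.homologyπ w).ShortExact := by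
  have h0 : Abelian.image.ι K.f ≫ K.g = 0 := by
    rw [← cancel_epi (Abelian.factorThruImage K.f), ← Category.assoc, Abelian.image.fac, K.zero, comp_zero]
  let f := K.liftCycles (Abelian.image.ι K.f) h0
  have hf : Abelian.factorThruImage K.f ≫ f = K.toCycles := by
    rw [← cancel_mono K.iCycles, Category.assoc, ShortComplex.liftCycles_i, Abelian.image.fac,
      ShortComplex.toCycles_i]
  haveI : Mono f := mono_of_mono_fac (K.liftCycles_i (Abelian.image.ι K.f) h0)
  have w : f ≫ K.homologyπ = 0 := by
    rw [← cancel_epi (Abelian.factorThruImage K.f), reassoc_of% hf, K.toCycles_comp_homologyπ, comp_zero]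
  refine ⟨f, w, { exact := ShortComplex.exact_of_g_is_cokernel _ ?_, mono_f := ‹_›, epi_g := inferInstance }⟩
  exact CokernelCofork.IsColimit.ofπ' _ w fun {T} t ht =>
    ⟨IsColimit.desc (K.homologyIsCokernel) (CokernelCofork.ofπ t (by rw [← hf, Category.assoc, ht, comp_zero])),
      (K.homologyIsCokernel).fac (CokernelCofork.ofπ t (by rw [← hf, Category.assoc, ht, comp_zero]))
        WalkingParallelPair.one⟩

variable (E : ChainComplex ((CohB1.ProjSpace n k).Modules) ℕ) {t : ℕ}
  (hbdd : ∀ s : ℕ, t < s → IsZero (E.X s)) (hcoh : ∀ s : ℕ, Coh.IsCoh (E.X s)) {d : ℤ}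
  (hreg : ∀ s : ℕ, Curv2.IsMRegular k n (E.X s) (d + s))
  (hsupp : ∀ i : ℕ, 0 < i → topologicalKrullDim (CohB1.support (E.homology i)) ≤ 1)

include hbdd hcoh hreg hsupp in
/-- Vanishing for the images in a complex with small homology. -/
theorem vanish_image : ∀ (j s : ℕ), t ≤ s + j → ∀ q, s + 1 ≤ q →
    Subsingleton (Coh.HH (CohB1.ProjSpace n k) ((twFun (d + s + 1 - q)).obj (Abelian.image (E.d (s + 1) s))) q) := by
  haveI : IsNoetherian (CohB1.ProjSpace n k) := CurveCohLib.isNoetherian_of_proper (k := k)
  haveI : (CohB1.ProjSpace n k).IsSeparated := AmpleVan.isSeparated_of_proper (A := k)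
  intro j
  induction j with
  | zero =>
    intro s hs q _
    have hz : IsZero (E.X (s + 1)) := hbdd (s + 1) (by omega)
    have hi : IsZero (Abelian.image (E.d (s + 1) s)) := (IsZero.iff_id_eq_zero _).2 (by
      rw [← cancel_epi (Abelian.factorThruImage (E.d (s + 1) s)), hz.eq_of_src (Abelian.factorThruImage _) 0,
        zero_comp, zero_comp])
    exact Euler.subsingleton_HH_of_isZero ((twFun _).map_isZero hi) q
  | succ j ih =>
    intro s hs q hq
    let φ := E.d (s + 1) s
    let K := E.sc' (s + 2) (s + 1) s
    let S1 := ShortComplex.mk (kernel.ι φ) (Abelian.factorThruImage φ)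
      ((cancel_mono (Abelian.image.ι φ)).1 (by rw [Category.assoc, Abelian.image.fac, kernel.condition, zero_comp]))
    have hS1 : S1.ShortExact :=
      { exact := ShortComplex.exact_of_f_is_kernel _ (KernelFork.IsLimit.ofι' _ _ fun {T} τ hτ =>
          ⟨kernel.lift φ τ (by rw [← Abelian.image.fac φ, reassoc_of% hτ, zero_comp]), kernel.lift_ι _ _ _⟩)
        mono_f := inferInstance
        epi_g := inferInstance }
    refine PnCoh.Finite.subsingleton_HH_X₃ (shortExact_twFun (d + s + 1 - q) hS1) q
      (vanish_of_regular (hcoh (s + 1)) (hreg (s + 1)) (by omega) (by push_cast; omega)) ?_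
    obtain ⟨f, w, hS2⟩ := shortExact_image_cycles K
    have hker : Subsingleton (Coh.HH (CohB1.ProjSpace n k) ((twFun (d + s + 1 - q)).obj K.cycles) (q + 1)) := by
      refine QCoh.subsingleton_HH_X₂ (shortExact_twFun (d + s + 1 - q) hS2) (q + 1) ?_ ?_
      · have h := ih (s + 1) (by omega) (q + 1) (by omega)
        rw [show d + ((s + 1 : ℕ) : ℤ) + 1 - ((q + 1 : ℕ) : ℤ) = d + s + 1 - q by push_cast; ring] at h
        exact h
      · let e : E.homology (s + 1) ≅ K.homology := E.homologyIsoSc' (s + 2) (s + 1) s (by simp) (by simp)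
        have hHc : Coh.IsCoh K.homology := by
          have hk : Coh.IsCoh K.cycles := by
            haveI : Mono K.iCycles := inferInstance
            exact QCoh.isCoh_of_mono K.iCycles (hcoh (s + 1))
              ((QCoh.isQCoh_iff_iso K.cyclesIsoKernel).2 (QCoh.isQCoh_kernel (hcoh (s + 1)).1 (hcoh s).1 _))
          exact QCoh.isCoh_of_epi K.homologyπ hk ((QCoh.isQCoh_iff_iso
            (K.homologyIsCokernel.coconePointUniqueUpToIso (cokernelIsCokernel _))).2
              (QCoh.isQCoh_cokernel (hcoh (s + 2)).1 hk.1 K.toCycles))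
        refine Snapper.subsingleton_HH_of_dim_lt 2 ⟨CohB1.support K.homology,
          QCoh.isClosed_support_of_isFT hHc.1 hHc.2⟩ ?_ _
          (ProjRegular.isCoh_twistBy hHc _).1 (HilbPoly.support_tensor_subset _ _) (q + 1) (by omega)
        show topologicalKrullDim ↥(CohB1.support K.homology) < _
        rw [QCoh.support_iso e.symm hHc.1]
        exact lt_of_le_of_lt (hsupp (s + 1) s.succ_pos) (by exact_mod_cast Nat.one_lt_two)
    exact QCoh.subsingleton_HH_of_iso ((twFun (d + s + 1 - q)).mapIso K.cyclesIsoKernel) (q + 1) hker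

include hbdd hcoh hreg hsupp in
/-- The last cokernel and image of such a complex are regular. -/
theorem regular_of_complex :
    Curv2.IsMRegular k n (cokernel (E.d 1 0)) d ∧ Curv2.IsMRegular k n (Abelian.image (E.d 1 0)) (d + 1) := by
  have hb := fun q (hq : 1 ≤ q) => vanish_image E hbdd hcoh hreg hsupp t 0 (by omega) q hq
  refine ⟨fun q hq hqn => ?_, fun q hq hqn => ?_⟩
  · let S := ShortComplex.mk (Abelian.image.ι (E.d 1 0)) (cokernel.π (E.d 1 0)) (kernel.condition _)
    have hS : S.ShortExact :=
      { exact := ShortComplex.exact_of_f_is_kernel _ (kernelIsKernel (cokernel.π (E.d 1 0)))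
        mono_f := inferInstance
        epi_g := inferInstance }
    have h0 := hreg 0
    refine PnCoh.Finite.subsingleton_HH_X₃ (shortExact_twFun (d - q) hS) q
      (vanish_of_regular (hcoh 0) h0 hq (by push_cast; omega)) ?_
    have h := hb (q + 1) (by omega)
    rw [show d + ((0 : ℕ) : ℤ) + 1 - ((q + 1 : ℕ) : ℤ) = d - q by push_cast; ring] at h
    exact h
  · have h := hb q hq
    rw [show d + ((0 : ℕ) : ℤ) + 1 - (q : ℤ) = d + 1 - q by push_cast; ring] at h
    exact h

end Groth.Agent.VarReg31
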