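import Groth.Agent.VarReg31.PowGen
import Groth.Agent.VarReg31.Mumford
import Groth.Agent.Curves16.GenH1
import Groth.Agent.AmpleVan.FinGen
import Groth.Agent.DeformNL.HilbH1
import Groth.Agent.AmpleX.Proj
import Groth.Agent.AmpleVan.Pull

/-!
# Linear bound on the regularity of powers of an ideal sheaf
-/

set_option linter.style.haveILetI false
set_option backward.isDefEq.respectTransparency false
set_option backward.isDefEq.respectTransparency.types false

universe u

open CategoryTheory CategoryTheory.Limits AlgebraicGeometry TopologicalSpace Opposite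

attribute [local instance] HasDerivedCategory.standard

noncomputable section

namespace Groth.Agent.VarReg31

open Groth.Agent
open Groth.Agent.AmpleVan (itw tw)
open Groth.Agent.H23.PicMul

theorem isAmple_twistProjSpace_one (k : Type u) [Field k] (n : ℕ) :
    CohB1.IsAmple (Twist.twistProjSpace n k 1) := by
  classical
  let T := Finset.image (fun j : Fin (n + 1) => (MvPolynomial.X j : MvPolynomial (Fin (n + 1)) k)) Finset.univ
  show CohB1.IsAmple (Twist.twist (CohB1.polyGrading n k) 1)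
  refine AmpleX.isAmple_twist_one (CohB1.polyGrading n k) T (fun f hf => ?_) (top_le_iff.1 fun y _ => ?_)
  · obtain ⟨j, -, rfl⟩ := Finset.mem_image.1 hf
    exact ProjPt.X_mem j
  · obtain ⟨j, hj⟩ := ProjUPX.cov_X y
    exact Opens.mem_iSup.2 ⟨⟨_, Finset.mem_image.2 ⟨j, Finset.mem_univ _, rfl⟩⟩, hj⟩

theorem cl_twist_pow (k : Type u) [Field k] (n : ℕ) (a : ℤ) (m : ℕ) :
    PicF.cl (Twist.twistProjSpace n k a) ^ m = PicF.cl (Twist.twistProjSpace n k (a * m)) := by
  induction m with
  | zero =>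
    rw [pow_zero, one_def, Nat.cast_zero, mul_zero]
    exact cl_eq_iff.2 (Pic13Lib.twistProjSpace_zero k n)
  | succ m ih =>
    rw [pow_succ, ih, ← cl_tensor, Nat.cast_succ, mul_add, mul_one]
    exact cl_eq_iff.2 (Pic13Lib.twistProjSpace_tensor k n _ _)

variable {X : Scheme.{u}}

/-- A twist of an ideal sheaf generated by sections gives generators near every point. -/
theorem exists_genNear [IsLocallyNoetherian X] [CompactSpace X] (I : X.IdealSheafData) {L₀ : X.Modules}
    (hL₀ : PicF.IsInvertible L₀)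
    (hd : Curv2.IsGloballyGenerated (CohB1.tensorMod (ClSub.idealMod I) L₀)) :
    ∃ (r : ℕ) (σ : Fin r → Γ((tw L₀).obj (Coh.structureModule X), ⊤)), GenNear σ I := by
  obtain ⟨ι, s, hs⟩ := Curves16.exists_generatedBy hd
  have hF : Coh.IsCoh (CohB1.tensorMod (ClSub.idealMod I) L₀) :=
    AmpleVan.isCoh_tensor (DeformNL.HilbH1.isCoh_idealMod I) (AmpleVan.isCoh_invertible hL₀)
  obtain ⟨r, j, hj⟩ := AmpleVan.exists_fin_generatedBy hF s hs
  let ψ := (tw L₀).map (ClSub.idealModι I)
  refine ⟨r, fun a => ψ.app ⊤ (s (j a)), fun U x hx => ?_⟩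
  obtain ⟨V₀, hxV₀, e₀, he₀⟩ := InvX.exists_frame hL₀ x
  obtain ⟨_, ⟨W, hW, rfl⟩, hxW, hWV⟩ := X.isBasis_affineOpens.exists_subset_of_mem_open
    (show x ∈ ((U ⊓ V₀ : X.Opens) : Set X) from ⟨hx, hxV₀⟩) (U ⊓ V₀).isOpen
  have hWU : W ≤ U := fun y hy => (hWV hy).1
  have hWV₀ : W ≤ V₀ := fun y hy => (hWV hy).2
  let e := AModX.res L₀ hWV₀ e₀
  have he : InvX.IsFrame e := he₀.res hWV₀
  let Φ : Γ(ClSub.idealMod I, W) →ₗ[Γ(X, W)] Γ(CohB1.tensorMod (ClSub.idealMod I) L₀, W) :=
    { toFun := fun k => InvX.tmul k e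
      map_add' := fun a b => AmpleVan.tmul_add_left a b e
      map_smul' := fun c a => InvX.tmul_smul_left c a e }
  have hΦ : Function.Bijective Φ := by
    have h := Eg2Twist.bijective_tmul_frame (M := ClSub.idealMod I) he (le_refl W)
    simp only [AModX.res_self] at h
    exact h
  let t : Fin r → Γ(CohB1.tensorMod (ClSub.idealMod I) L₀, W) := fun a => AModX.res _ le_top (s (j a))
  have ht : Submodule.span Γ(X, W) (Set.range t) = ⊤ :=
    AmpleVan.span_eq_top_of_germs hF.1 hW t fun y hy => by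
      have e1 : ∀ a, ((CohB1.tensorMod (ClSub.idealMod I) L₀).presheaf.germ W y hy).hom (t a) =
          ((CohB1.tensorMod (ClSub.idealMod I) L₀).presheaf.germ ⊤ y trivial).hom (s (j a)) := fun a =>
        InvX.germ_res' le_top hy _
      simp only [e1]
      exact hj y
  choose k hk using fun a => hΦ.2 (t a)
  have hspan : Submodule.span Γ(X, W) (Set.range k) = ⊤ := by
    apply Submodule.map_injective_of_injective hΦ.1
    rw [Submodule.map_span, ← Set.range_comp, Submodule.map_top, LinearMap.range_eq_top.2 hΦ.2, ← ht]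
    congr 2
    exact funext hk
  refine ⟨⟨W, hW⟩, hxW, hWU, InvX.tmul (show Γ(Coh.structureModule X, W) from (1 : Γ(X, W))) e,
    InvX.isFrame_tmul (InvX.isFrame_one W) he, fun a => OmegaSh.idealSect I W (k a), fun a => ?_, ?_⟩
  · show AModX.res ((tw L₀).obj (Coh.structureModule X)) le_top (ψ.app ⊤ (s (j a))) = _
    rw [← AModX.app_res]
    refine (congrArg (ψ.app W) (hk a).symm).trans ?_
    refine (AmpleVan.map_tmul_left (ClSub.idealModι I) (k a) e).trans ?_
    rw [← InvX.tmul_smul_left]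
    exact congrArg (InvX.tmul · e) (smul_frm_zero (L := L₀) e _).symm
  · refine le_antisymm (fun a ha => ?_) (Ideal.span_le.2 ?_)
    · obtain ⟨c, rfl⟩ := OmegaLib.exists_of_mem I ⟨W, hW⟩ a ha
      have hc : c ∈ Submodule.span Γ(X, W) (Set.range k) := hspan ▸ trivial
      induction hc using Submodule.span_induction with
      | mem c hc =>
        obtain ⟨b, rfl⟩ := hc
        exact Ideal.subset_span ⟨b, rfl⟩
      | zero => rw [map_zero]; exact zero_mem _
      | add p q _ _ hp hq =>
        rw [map_add]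
        exact add_mem (hp (OmegaLib.idealSect_mem I ⟨W, hW⟩ p)) (hq (OmegaLib.idealSect_mem I ⟨W, hW⟩ q))
      | smul b p _ hp =>
        rw [OmegaLib.idealSect_smul]
        exact Ideal.mul_mem_left _ b (hp (OmegaLib.idealSect_mem I ⟨W, hW⟩ p))
    · rintro _ ⟨b, rfl⟩
      exact OmegaLib.idealSect_mem I ⟨W, hW⟩ _

/-- The regularity of `I^p` is at most `d p + e`. -/
theorem exists_regularity_pow (k : Type u) [Field k] (n : ℕ) (I : (CohB1.ProjSpace n k).IdealSheafData) (d : ℤ)
    (hd : Curv2.IsGloballyGenerated (CohB1.tensorMod (ClSub.idealMod I) (Twist.twistProjSpace n k d))) :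
    ∃ e : ℤ, ∀ p : ℕ, ∀ m : ℤ, d * (p : ℤ) + e ≤ m → Curv2.IsMRegular k n (ClSub.idealMod (I ^ p)) m := by
  haveI := Pic13Lib.isLocallyNoetherian_projSpace k n
  haveI : CompactSpace (CohB1.ProjSpace n k) := AmpleVan.compactSpace_of_proper (A := k)
  have hd₀ := Pic13Lib.isInvertible_twistProjSpace k n d
  obtain ⟨r, σ, hσ⟩ := exists_genNear I hd₀ hd
  let L := (tw (Twist.twistProjSpace n k d)).obj (Coh.structureModule (CohB1.ProjSpace n k))
  have hL : PicF.IsInvertible L := InvX.isInvertible_tensorMod InvX.isInvertible_structureModule hd₀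
  have hLcl : PicF.cl L = PicF.cl (Twist.twistProjSpace n k d) :=
    (cl_tensor (Coh.structureModule (CohB1.ProjSpace n k)) (Twist.twistProjSpace n k d)).trans
      (by rw [← one_def, one_mul])
  obtain ⟨m₀, hm₀⟩ := exists_uniform_vanishing_pow (A := k) (σ := σ) (I := I) hL (isAmple_twistProjSpace_one k n)
    (fun p => DeformNL.HilbH1.isCoh_idealMod (I ^ p)) hσ
  refine ⟨(m₀ : ℤ) + n, fun p m hm i hi hin => ?_⟩
  obtain ⟨t, ht⟩ : ∃ t : ℕ, m - i = d * p + t := ⟨(m - i - d * p).toNat, by omega⟩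
  obtain ⟨q, rfl⟩ := Nat.exists_eq_add_of_le' hi
  refine QCoh.subsingleton_HH_of_iso (cl_eq_iff.1 ?_).some _ (hm₀ t (by omega) p q)
  rw [cl_tensor, cl_tensor, AmpleVan.cl_itw, cl_tensorPow, hLcl, cl_twist_pow, cl_twist_pow, one_mul, mul_assoc,
    ← cl_tensor (Twist.twistProjSpace n k (d * p)), ht]
  exact congrArg _ (cl_eq_iff.2 (Pic13Lib.twistProjSpace_tensor k n _ _))

end Groth.Agent.VarReg31
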