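import Groth.Agent.Pic13Lib.Sequence
import Groth.Agent.Pic13Lib.Linear
import Groth.Agent.S16627
import Groth.Agent.S1642

/-!
# Cutting a pair of modules on projective space by a general linear form
-/

set_option linter.style.haveILetI false
set_option linter.unusedSectionVars false
set_option backward.isDefEq.respectTransparency false
set_option backward.isDefEq.respectTransparency.types false
set_option maxHeartbeats 1000000

universe u

open CategoryTheory CategoryTheory.Limits AlgebraicGeometry TopologicalSpace Opposite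
open Groth.Agent.PnCoh.Finite (mapLin)

noncomputable section

namespace Groth.Agent.VarReg31

open Groth.Agent Groth.Agent.Pic13Lib

variable {k : Type u} [Field k] {n : ℕ}

/-- A linear form outside finitely many points. -/
theorem exists_avoid [Infinite k] {S : Set (CohB1.ProjSpace n k)} (hS : S.Finite) :
    ∃ a : Forms k n, ∀ y ∈ S, a ∉ vanAt k n y := by
  haveI : Finite S := hS
  by_contra hcon
  push Not at hcon
  obtain ⟨y, hy⟩ := Subspace.exists_eq_top_of_iUnion_eq_univ (p := fun y : S => vanAt k n y.1)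
    (Set.eq_univ_of_forall fun a => let ⟨y, h, h'⟩ := hcon a; Set.mem_iUnion.2 ⟨⟨y, h⟩, h'⟩)
  obtain ⟨j, hj⟩ := exists_X_notMem (k := k) (n := n) y.1
  exact hj (hy ▸ Submodule.mem_top)

/-- The form as a map `O(-1) ⟶ O`. -/
def formHom (a : Forms k n) : Twist.twistProjSpace n k (-1) ⟶ Coh.structureModule (CohB1.ProjSpace n k) :=
  (show Twist.twistProjSpace n k (-1) ⟶ Twist.twistProjSpace n k 0 from
    ProjShift.xHom (𝒜 := CohB1.polyGrading n k) a.2 0) ≫ (twistProjSpace_zero k n).some.inv

/-- Multiplication by a form `G(-1) ⟶ G`, natural in `G`. -/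
def mulNat (a : Forms k n) : twFun (k := k) (n := n) (-1) ⟶ 𝟭 _ :=
  (DCoh.tensorBi (X := CohB1.ProjSpace n k)).flip.map (formHom a) ≫ AmpleVan.twUnit.hom

theorem stalkLin_comp {X : Scheme.{u}} {A B C : X.Modules} (f : A ⟶ B) (g : B ⟶ C) (y : X) :
    ⇑(CycLib.stalkLin (f ≫ g) y) = CycLib.stalkLin g y ∘ CycLib.stalkLin f y := by
  funext t
  show (KFlatLib.stalkAb y).map (f ≫ g) t = (KFlatLib.stalkAb y).map g ((KFlatLib.stalkAb y).map f t)
  rw [Functor.map_comp]
  rfl

theorem bijective_stalkLin_of_isIso {X : Scheme.{u}} {A B : X.Modules} (f : A ⟶ B) [IsIso f] (y : X) :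
    Function.Bijective (CycLib.stalkLin f y) := by
  haveI : IsIso ((KFlatLib.stalkAb y).map f) := inferInstance
  exact (ConcreteCategory.isIso_iff_bijective _).1 this

theorem bijective_tensor_unit {X : Scheme.{u}} {A B : X.Modules} (x : A ⟶ B) (e : B ≅ Coh.structureModule X)
    (G : X.Modules) (y : X) (h : Function.Bijective (CycLib.stalkLin ((DCoh.tensorBi.obj G).map x) y)) :
    Function.Bijective
      (CycLib.stalkLin ((DCoh.tensorBi.flip.map (x ≫ e.hom) ≫ AmpleVan.twUnit.hom).app G) y) := by
  rw [NatTrans.comp_app, stalkLin_comp]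
  refine (bijective_stalkLin_of_isIso _ y).comp ?_
  rw [Functor.flip_map_app, Functor.map_comp, stalkLin_comp]
  exact (bijective_stalkLin_of_isIso _ y).comp h

theorem bijective_mulNat_stalk (a : Forms k n) (G : (CohB1.ProjSpace n k).Modules) {y : CohB1.ProjSpace n k}
    (hy : a ∉ vanAt k n y) : Function.Bijective (CycLib.stalkLin ((mulNat a).app G) y) :=
  bijective_tensor_unit _ (twistProjSpace_zero k n).some.symm G y (bijective_mulForm_stalk (G := G) a hy 0)

theorem mono_mulNat (a : Forms k n) {G : (CohB1.ProjSpace n k).Modules} (hG : Coh.IsCoh G)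
    (ha : ∀ y, Curv2.IsWeakAssPoint G y → a ∉ vanAt k n y) : Mono ((mulNat a).app G) := by
  refine QCoh.mono_of_app_injective _ fun U => (injective_iff_map_eq_zero _).2 fun s hs => ?_
  refine AssPtX.eq_zero_of_germ (X := CohB1.ProjSpace n k) (ProjRegular.isCoh_twistBy hG (-1)).1 s
    fun y hyU hy => ?_
  refine (bijective_mulNat_stalk a G (ha y ((isWeakAssPoint_twP (-1) y).1 hy))).1 ?_
  rw [map_zero]
  exact (CycLib.stalkAdd_germ ((mulNat a).app G) (U := U) y hyU s).trans ((congrArg _ hs).trans (map_zero _))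

theorem finite_weakAss {G : (CohB1.ProjSpace n k).Modules} (hG : Coh.IsCoh G) :
    {y : CohB1.ProjSpace n k | Curv2.IsWeakAssPoint G y}.Finite := by
  haveI := isLocallyNoetherian_projSpace k n
  refine (AssPtX.finite_assPoints hG (U := ⊤) (by simpa using isCompact_univ)).subset fun y hy => ?_
  exact ⟨trivial, AssPtX.isAssPoint_iff.2 hy⟩

/-- Closed subsets of `Z` without generic points of `Z` have smaller dimension. -/
theorem dim_lt_of_no_generic {T : Type*} [TopologicalSpace T] [T0Space T] [QuasiSober T] {Z : Set T}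
    (hZ : IsClosed Z) {e : ℕ} (he : topologicalKrullDim T < ((e + 1 : ℕ) : WithBot ℕ∞))
    (h : ∀ x ∈ genericPoints T, x ∉ Z) : topologicalKrullDim ↥Z < (e : WithBot ℕ∞) := by
  by_contra hlt
  obtain ⟨p, hp⟩ := Order.le_krullDim_iff.1 (not_lt.1 hlt)
  have hce : Topology.IsClosedEmbedding (Subtype.val : Z → T) := hZ.isClosedEmbedding_subtypeVal
  let f : IrreducibleCloseds Z → IrreducibleCloseds T := fun c =>
    ⟨Subtype.val '' (c : Set Z), c.isIrreducible.image _ continuous_subtype_val.continuousOn,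
      hce.isClosedMap _ c.isClosed⟩
  have hf : StrictMono f := fun c d hcd => by
    refine lt_of_le_of_ne (Set.image_mono hcd.le) fun e => hcd.ne ?_
    exact IrreducibleCloseds.ext (Subtype.val_injective.image_injective (congrArg SetLike.coe e))
  obtain ⟨D, hD, hsub, hmax⟩ := exists_preirreducible _ (f p.last).isIrreducible.isPreirreducible
  have hDirr : IsIrreducible D := ⟨(f p.last).isIrreducible.nonempty.mono hsub, hD⟩
  have hDc : D ∈ irreducibleComponents T := ⟨hDirr, fun E hE hDE => (hmax E hE.2 hDE).le⟩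
  let DD : IrreducibleCloseds T := ⟨D, hDirr, isClosed_of_mem_irreducibleComponents D hDc⟩
  obtain ⟨η, hη⟩ := QuasiSober.sober hDirr (isClosed_of_mem_irreducibleComponents D hDc)
  have hηgen : η ∈ genericPoints T := show closure {η} ∈ irreducibleComponents T from hη.def ▸ hDc
  have hlast : (p.map f hf).last < DD := by
    rw [LTSeries.last_map]
    refine lt_of_le_of_ne hsub fun e => h η hηgen ?_
    have : η ∈ Subtype.val '' (p.last : Set Z) := (congrArg SetLike.coe e).ge hη.mem
    obtain ⟨z, -, rfl⟩ := this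
    exact z.2
  have hlen := Order.LTSeries.length_le_krullDim ((p.map f hf).snoc DD hlast)
  simp only [RelSeries.snoc_length, LTSeries.map_length, hp] at hlen
  exact absurd (lt_of_le_of_lt hlen he) (lt_irrefl _)

/-- `G / aG` lives on the hyperplane. -/
theorem notMem_support_cokernel_mulNat (a : Forms k n) (G : (CohB1.ProjSpace n k).Modules)
    {y : CohB1.ProjSpace n k} (hy : a ∉ vanAt k n y) : y ∉ CohB1.support (cokernel ((mulNat a).app G)) := by
  intro h
  apply h
  let π := cokernel.π ((mulNat a).app G)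
  haveI : Epi ((KFlatLib.stalkAb y).map π) := inferInstance
  have hsurj : Function.Surjective ((KFlatLib.stalkAb y).map π) := (AddCommGrpCat.epi_iff_surjective _).1 this
  refine subsingleton_of_forall_eq 0 fun z => ?_
  obtain ⟨t, rfl⟩ := hsurj z
  obtain ⟨u, rfl⟩ := (bijective_mulNat_stalk a G hy).2 t
  show (KFlatLib.stalkAb y).map π ((KFlatLib.stalkAb y).map ((mulNat a).app G) u) = 0
  rw [← ConcreteCategory.comp_apply, ← Functor.map_comp, cokernel.condition, Functor.map_zero]
  rfl

theorem isCoh_twFun {G : (CohB1.ProjSpace n k).Modules} (hG : Coh.IsCoh G) (d : ℤ) :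
    Coh.IsCoh ((twFun d).obj G) :=
  ProjRegular.isCoh_twistBy hG d

/-- Snake: the map of cokernels is a monomorphism if the third vertical map is. -/
theorem mono_cokernel_map {C : Type*} [Category C] [Abelian C] {S T : ShortComplex C} (hS : S.Exact)
    [Mono T.f] (v₁ : S.X₁ ⟶ T.X₁) (v₂ : S.X₂ ⟶ T.X₂) (v₃ : S.X₃ ⟶ T.X₃) [Mono v₃]
    (w₁ : v₁ ≫ T.f = S.f ≫ v₂) (w₂ : v₂ ≫ T.g = S.g ≫ v₃) :
    Mono (cokernel.map v₁ v₂ S.f T.f w₁) := by
  refine Preadditive.mono_of_cancel_zero _ fun {U} x hx => ?_
  obtain ⟨U₁, p₁, hp₁, y, hy⟩ := surjective_up_to_refinements_of_epi (cokernel.π v₁) x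
  have h0 : (y ≫ T.f) ≫ cokernel.π v₂ = 0 := by
    rw [Category.assoc, ← cokernel.π_desc v₁ (T.f ≫ cokernel.π v₂) (by rw [reassoc_of% w₁, cokernel.condition, comp_zero]),
      ← reassoc_of% hy]
    exact (congrArg (fun q => p₁ ≫ q) hx).trans comp_zero
  have hex : (ShortComplex.mk v₂ (cokernel.π v₂) (cokernel.condition _)).Exact :=
    ShortComplex.exact_of_g_is_cokernel _ (cokernelIsCokernel _)
  obtain ⟨U₂, p₂, hp₂, z, hz⟩ := hex.exact_up_to_refinements _ h0
  have hgz : z ≫ S.g = 0 := by
    rw [← cancel_mono v₃, zero_comp, Category.assoc, ← w₂, ← reassoc_of% hz, T.zero]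
    simp
  obtain ⟨U₃, p₃, hp₃, w, hw⟩ := hS.exact_up_to_refinements z hgz
  have key : p₃ ≫ p₂ ≫ y = w ≫ v₁ := by
    rw [← cancel_mono T.f, Category.assoc, Category.assoc, hz, reassoc_of% hw, ← w₁, Category.assoc]
  rw [← cancel_epi p₁, ← cancel_epi p₂, ← cancel_epi p₃, hy, comp_zero, comp_zero, comp_zero,
    reassoc_of% key, cokernel.condition, comp_zero]

/-- A monomorphism stays one after cutting by a form regular on the quotient. -/
theorem mono_cutMap (a : Forms k n) {S : ShortComplex (CohB1.ProjSpace n k).Modules} (hS : S.ShortExact)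
    (h3 : Mono ((mulNat a).app S.X₃)) :
    Mono (cokernel.map ((mulNat a).app S.X₁) ((mulNat a).app S.X₂) ((twFun (-1)).map S.f) S.f
      ((mulNat a).naturality S.f).symm) :=
  haveI : Mono S.f := hS.mono_f
  mono_cokernel_map (S := S.map (twFun (-1))) (T := S) (shortExact_twFun (-1) hS).exact
    ((mulNat a).app S.X₁) ((mulNat a).app S.X₂) ((mulNat a).app S.X₃)
    ((mulNat a).naturality S.f).symm ((mulNat a).naturality S.g).symm

end Groth.Agent.VarReg31
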