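import Groth.Agent.VarReg31.Mumford
import Groth.Agent.Pic13Lib.RegBounded
import Groth.Agent.Pic13Lib.Bounded
import Groth.Agent.H23.PicMul
import Groth.Agent.CurveCohLib.Rank

/-!
# Uniform regularity of quotients of a fixed free module with given Hilbert polynomial
-/

set_option linter.style.haveILetI false
set_option linter.unusedSectionVars false
set_option backward.isDefEq.respectTransparency false
set_option backward.isDefEq.respectTransparency.types false
set_option maxHeartbeats 1000000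

universe u

open CategoryTheory CategoryTheory.Limits AlgebraicGeometry TopologicalSpace Opposite
open scoped Groth.Agent.H23.PicMul

noncomputable section

namespace Groth.Agent.VarReg31

open Groth.Agent Groth.Agent.Pic13Lib

variable {k : Type u} [Field k] {n : ℕ}

theorem isMRegular_twFun {B : (CohB1.ProjSpace n k).Modules} {m : ℤ} (h : Curv2.IsMRegular k n B m) :
    Curv2.IsMRegular k n ((twFun m).obj B) 0 := fun q hq hqn => by
  obtain ⟨c⟩ := twFun_twFun B m (0 - (q : ℤ))
  refine QCoh.subsingleton_HH_of_iso c.symm q ?_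
  rw [show m + (0 - (q : ℤ)) = m - q by ring, twFun_obj]
  exact h q hq hqn

theorem isMRegular_of_twFun {B : (CohB1.ProjSpace n k).Modules} {m m' : ℤ}
    (h : Curv2.IsMRegular k n ((twFun m).obj B) m') : Curv2.IsMRegular k n B (m + m') := fun q hq hqn => by
  obtain ⟨c⟩ := twFun_twFun B m (m' - (q : ℤ))
  rw [show m + m' - (q : ℤ) = m + (m' - q) by ring, ← twFun_obj]
  exact QCoh.subsingleton_HH_of_iso c q (h q hq hqn)

variable {X : Scheme.{u}} [X.Over (Spec (CommRingCat.of k))] (i : X ⟶ CohB1.ProjSpace n k)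
  [IsClosedImmersion i] (hi : i ≫ CohB1.ProjSpace.toSpec n k = X ↘ Spec (CommRingCat.of k))

include hi in
theorem chiAt_pushP {F : X.Modules} (hF : Coh.IsCoh F) (m t : ℤ) :
    chiAt k n ((twFun m).obj (pushP i F)) t = Curv2.euler k X (Pic13.twistOn k i F (m + t)) := by
  obtain ⟨c⟩ := twFun_twFun (pushP i F) m t
  rw [chiAt, Euler.euler_congr k c, twFun_obj]
  unfold Curv2.euler
  exact (finsum_congr fun q => by rw [(exists_linearEquiv_twistOn i hi hF (m + t) q).some.finrank_eq]).symm

theorem cl_oX (m : ℕ) : PicF.cl (oX i (m : ℤ)) = PicF.cl (oX i 1) ^ m := by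
  induction m with
  | zero =>
    rw [pow_zero, H23.PicMul.one_def, Nat.cast_zero]
    exact H23.PicMul.cl_eq_iff.2 ⟨(oX_zero i).some.symm⟩
  | succ m ih =>
    rw [pow_succ, ← ih, ← H23.PicMul.cl_tensor, Nat.cast_succ]
    exact H23.PicMul.cl_eq_iff.2 ⟨(oX_add i (m : ℤ) 1).some.symm⟩

theorem twist_iso {L : X.Modules} (hL : Nonempty (L ≅ oX i 1)) (E : X.Modules) (m : ℕ) :
    Nonempty (ShStab.twist X L E m ≅ Pic13.twistOn k i E m) := by
  refine H23.PicMul.cl_eq_iff.1 ?_
  show PicF.cl (CohB1.tensorMod E (CohB1.tensorPow L m)) = PicF.cl (CohB1.tensorMod E (oX i (m : ℤ)))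
  rw [H23.PicMul.cl_tensor, H23.PicMul.cl_tensor, H23.PicMul.cl_tensorPow, H23.PicMul.cl_eq_iff.2 hL, cl_oX]

theorem subsingleton_X₃ {Y : Scheme.{u}} [Y.Over (Spec (CommRingCat.of k))] {T : ShortComplex Y.Modules}
    (hT : T.ShortExact) (j : ℕ) (h2 : Subsingleton (Coh.HH Y T.X₂ j))
    (h3 : Subsingleton (Coh.HH Y T.X₁ (j + 1))) : Subsingleton (Coh.HH Y T.X₃ j) := by
  refine subsingleton_of_forall_eq 0 fun x => ?_
  have hx : x ∈ LinearMap.ker (PnCoh.Finite.deltaLin k hT j) := LinearMap.mem_ker.2 (h3.elim _ _)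
  rw [CurveCohLib.ker_deltaLin (A := k) hT j] at hx
  obtain ⟨y, rfl⟩ := hx
  rw [h2.elim y 0, map_zero]

include hi in
/-- The Hilbert function of the twisted push forward of a kernel. -/
theorem chiAt_kernel {S : ShortComplex X.Modules} (hS : S.ShortExact) (h1 : Coh.IsCoh S.X₁)
    (h2 : Coh.IsCoh S.X₂) (h3 : Coh.IsCoh S.X₃) (m t : ℤ) :
    chiAt k n ((twFun m).obj (pushP i S.X₂)) t = chiAt k n ((twFun m).obj (pushP i S.X₁)) t +
      Curv2.euler k X (Pic13.twistOn k i S.X₃ (m + t)) := by
  rw [← chiAt_pushP i hi h3]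
  exact chiAt_add (S := (S.map (Scheme.Modules.pushforward i)).map (twFun m))
    (shortExact_twFun m (shortExact_push i hS)) (isCoh_twFun (G := pushP i S.X₁) (isCoh_pushP i h1) m)
    (isCoh_twFun (G := pushP i S.X₂) (isCoh_pushP i h2) m) (isCoh_twFun (G := pushP i S.X₃) (isCoh_pushP i h3) m) t

theorem mono_twFun_push {A B : X.Modules} (f : A ⟶ B) [Mono f] (m : ℤ) :
    Mono ((twFun m).map ((Scheme.Modules.pushforward i).map f)) := by
  have : (ShortComplex.mk f (cokernel.π f) (cokernel.condition f)).ShortExact :=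
    { exact := ShortComplex.exact_of_g_is_cokernel _ (cokernelIsCokernel _)
      mono_f := inferInstance
      epi_g := inferInstance }
  exact (shortExact_twFun m (shortExact_push i this)).mono_f

theorem subsingleton_twist_X₃ {S : ShortComplex X.Modules} (hS : S.ShortExact) (d : ℤ) (j : ℕ)
    (h2 : Subsingleton (Coh.HH X (Pic13.twistOn k i S.X₂ d) j))
    (h3 : Subsingleton (Coh.HH X (Pic13.twistOn k i S.X₁ d) (j + 1))) :
    Subsingleton (Coh.HH X (Pic13.twistOn k i S.X₃ d) j) := by
  haveI := AmpleVan.isEquivalence_tw (isInvertible_oX i d)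
  exact subsingleton_X₃ (k := k) (T := S.map (AmpleVan.tw (oX i d))) (hS.map_of_exact _) j h2 h3

include hi in
/-- The kernels and quotients with a given Hilbert polynomial are uniformly regular. -/
theorem exists_regularity_quot [Infinite k] [IsProper (X ↘ Spec (CommRingCat.of k))] (N : ℕ) (P : Polynomial ℚ) {L : X.Modules}
    (hL : Nonempty (L ≅ oX i 1)) : ∃ m : ℤ, ∀ (F : X.Modules) (q : FlatMod.freeMod X N ⟶ F),
      Coh.IsCoh F → Epi q → ShStab.IsHilbPoly k X L F P →
        Pic13.IsMRegular k i (kernel q) m ∧ Pic13.IsMRegular k i F m := by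
  haveI := isLocallyNoetherian_of_closed i
  have hO : Coh.IsCoh (FlatMod.freeMod X N) := isCoh_sigma_unit N
  obtain ⟨mA, hmA⟩ := exists_isMRegular i hO
  let A := (twFun mA).obj (pushP i (FlatMod.freeMod X N))
  have hA : Coh.IsCoh A := isCoh_twFun (isCoh_pushP i hO) mA
  obtain ⟨m, hm⟩ := exists_regularity (k := k) (n := n) (n + 1) (-mA) (fun t => chiAt k n A t)
    (fun t => chiAt k n A t - ⌊P.eval ((mA + t : ℤ) : ℚ)⌋)
  refine ⟨max mA (mA + m), fun F q hF hq hP => ?_⟩
  have hG : Coh.IsCoh (kernel q) := QCoh.isCoh_kernel hO hF q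
  let S : ShortComplex X.Modules := ShortComplex.mk (kernel.ι q) q (kernel.condition q)
  have hS : S.ShortExact :=
    { exact := ShortComplex.exact_of_f_is_kernel _ (kernelIsKernel q)
      mono_f := inferInstance
      epi_g := hq }
  have hreg : Curv2.IsMRegular k n ((twFun mA).obj (pushP i (kernel q))) m := by
    refine hm A _ ((twFun mA).map ((Scheme.Modules.pushforward i).map (kernel.ι q)))
      (mono_twFun_push i _ mA) hA
      (isCoh_twFun (G := pushP i (kernel q)) (isCoh_pushP i hG) mA) (isMRegular_twFun ((isMRegular_iff i hO mA).1 hmA))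
      (lt_of_le_of_lt ((topologicalKrullDim_subspace_le _ _).trans
          (Pic13Lib.krullDim_le_of_closed (n := n) (k := k) (𝟙 _)))
        (by exact_mod_cast Nat.lt_succ_self n)) (fun t _ => rfl) fun t ht => ?_
    have hadd : chiAt k n A t = chiAt k n ((twFun mA).obj (pushP i (kernel q))) t +
        Curv2.euler k X (Pic13.twistOn k i F (mA + t)) := chiAt_kernel i hi (S := S) hS hG hO hF mA t
    obtain ⟨s, hs⟩ : ∃ s : ℕ, mA + t = s := ⟨(mA + t).toNat, by omega⟩
    obtain ⟨e⟩ := twist_iso i hL F s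
    have e2 := hP s
    rw [Euler.euler_congr k e] at e2
    have e3 : ⌊P.eval ((mA + t : ℤ) : ℚ)⌋ = Curv2.euler k X (Pic13.twistOn k i F (mA + t)) := by
      rw [hs, Int.cast_natCast, ← e2, Int.floor_intCast]
    rw [e3]
    omega
  have hGreg : Pic13.IsMRegular k i (kernel q) (mA + m) :=
    (isMRegular_iff i hG _).2 (isMRegular_of_twFun hreg)
  have hG' := isMRegular_of_le i hG hGreg (le_max_right mA (mA + m))
  refine ⟨hG', fun j hj => ?_⟩
  exact subsingleton_twist_X₃ i (S := S) hS _ j
    (isMRegular_of_le i hO hmA (le_max_left mA (mA + m)) j hj)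
    (subsingleton_HH_of_isMRegular i hG hG' (by omega) (by omega))

end Groth.Agent.VarReg31
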