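import Groth.Agent.AmpleVan.Uniform
import Groth.Agent.Eg2Twist.TmulFrame
import Groth.Agent.OmegaLib.IdealMod
import Groth.Agent.CohGab92.Basic

/-!
# The system of twisted powers of an ideal sheaf generated by sections
-/

set_option linter.style.haveILetI false
set_option backward.isDefEq.respectTransparency false
set_option backward.isDefEq.respectTransparency.types false

universe u

open CategoryTheory CategoryTheory.Limits AlgebraicGeometry TopologicalSpace Opposite

attribute [local instance] HasDerivedCategory.standard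
attribute [local instance] Groth.Agent.QCoh.hasFiniteBiproducts

noncomputable section

namespace Groth.Agent.VarReg31

open Groth.Agent
open Groth.Agent.AmpleVan (itw tw mulSec twSys)

variable {X : Scheme.{u}} {r : ℕ}

section Img

variable (S : FFun.Gen.Sys X r)

theorem image_lift_zero (n : ℕ) (i : Fin r) :
    (Abelian.image.ι (S.aug n) ≫ S.t n i) ≫ cokernel.π (S.aug (n + 1)) = 0 := by
  rw [← cancel_epi (Abelian.factorThruImage (S.aug n)), comp_zero, ← Category.assoc, ← Category.assoc,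
    Abelian.image.fac, ← S.aug_comm, Category.assoc, cokernel.condition, comp_zero]

/-- The subsystem generated by the zeroth term. -/
def imgSys : FFun.Gen.Sys X r where
  G n := Abelian.image (S.aug n)
  t n i := kernel.lift _ (Abelian.image.ι (S.aug n) ≫ S.t n i) (image_lift_zero S n i)
  comm n i j := by
    rw [← cancel_mono (Abelian.image.ι (S.aug (n + 1 + 1)))]
    simp only [Abelian.image.ι, Category.assoc, kernel.lift_ι, kernel.lift_ι_assoc, S.comm]

theorem fac_imgSys_t (n : ℕ) (i : Fin r) :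
    (FFun.Gen.Sys.free (S.G 0) r).t n i ≫ Abelian.factorThruImage (S.aug (n + 1)) =
      Abelian.factorThruImage (S.aug n) ≫ (imgSys S).t n i := by
  have e : (imgSys S).t n i ≫ Abelian.image.ι (S.aug (n + 1)) = Abelian.image.ι (S.aug n) ≫ S.t n i :=
    kernel.lift_ι _ _ _
  rw [← cancel_mono (Abelian.image.ι (S.aug (n + 1))), Category.assoc, Category.assoc, e,
    Abelian.image.fac, ← Category.assoc, Abelian.image.fac, S.aug_comm]

theorem genFrom_imgSys : (imgSys S).GenFrom 0 := by
  intro n _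
  refine Preadditive.epi_of_cancel_zero _ fun {Z} g hg => ?_
  have hg' : ∀ i, (imgSys S).t n i ≫ g = 0 := fun i => by
    have h := congrArg (fun z => biproduct.ι (fun _ : ULift.{u} (Fin r) => (imgSys S).G n) ⟨i⟩ ≫ z) hg
    simp only [biproduct.ι_desc_assoc, comp_zero] at h
    exact h
  haveI : Epi (Abelian.factorThruImage (S.aug (n + 1))) := inferInstance
  refine (cancel_epi (Abelian.factorThruImage (S.aug (n + 1)))).1 (Eq.trans ?_ comp_zero.symm)
  refine biproduct.hom_ext' _ _ fun s => ?_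
  obtain ⟨s⟩ := s
  obtain ⟨i, hi⟩ := Sym.exists_mem s
  obtain ⟨s', rfl⟩ := Sym.exists_cons_of_mem hi
  have e : biproduct.ι (fun _ : ULift.{u} (Sym (Fin r) (n + 1)) => S.G 0) ⟨i ::ₛ s'⟩ =
      biproduct.ι (fun _ : ULift.{u} (Sym (Fin r) n) => S.G 0) ⟨s'⟩ ≫ (FFun.Gen.Sys.free (S.G 0) r).t n i := by
    simp [FFun.Gen.Sys.free]
  rw [e, comp_zero, Category.assoc, ← Category.assoc ((FFun.Gen.Sys.free (S.G 0) r).t n i), fac_imgSys_t,
    Category.assoc, hg', comp_zero, comp_zero]

end Img

section Powers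

variable {L : X.Modules} (hL : PicF.IsInvertible L) (σ : Fin r → Γ(L, ⊤)) (I : X.IdealSheafData)

/-- Near every point `σ` has coordinates generating `I`. -/
def GenNear : Prop :=
  ∀ (U : X.Opens) (x : X), x ∈ U → ∃ V : X.affineOpens, x ∈ V.1 ∧ V.1 ≤ U ∧ ∃ e : Γ(L, V.1),
    InvX.IsFrame e ∧ ∃ g : Fin r → Γ(X, V.1),
      (∀ j, AModX.res L (le_top : V.1 ≤ ⊤) (σ j) = g j • e) ∧ I.ideal V = Ideal.span (Set.range g)

/-- The power of a frame. -/
def frm {V : X.Opens} (e : Γ(L, V)) : ∀ n, Γ((itw L n).obj (Coh.structureModule X), V)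
  | 0 => (1 : Γ(X, V))
  | n + 1 => InvX.tmul (frm e n) e

theorem smul_frm_zero {V : X.Opens} (e : Γ(L, V)) (a : Γ(X, V)) :
    a • frm e 0 = (show Γ(Coh.structureModule X, V) from a) := mul_one a

theorem map_idealModι_app (J : X.IdealSheafData) (V : X.affineOpens) {e : Γ(L, V.1)} (he : InvX.IsFrame e) :
    ∀ n, (∀ z, ∃ a ∈ J.ideal V, ((itw L n).map (ClSub.idealModι J)).app V.1 z = a • frm e n) ∧
      ∀ a ∈ J.ideal V, ∃ z, ((itw L n).map (ClSub.idealModι J)).app V.1 z = a • frm e n := by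
  intro n
  induction n with
  | zero =>
    refine ⟨fun z => ⟨OmegaSh.idealSect J V.1 z, OmegaLib.idealSect_mem J V z, ?_⟩, fun a ha => ?_⟩
    · rw [smul_frm_zero]; rfl
    · obtain ⟨z, hz⟩ := OmegaLib.exists_of_mem J V a ha
      refine ⟨z, ?_⟩
      rw [smul_frm_zero, ← hz]; rfl
  | succ n ih =>
    have key : ∀ y, ((itw L (n + 1)).map (ClSub.idealModι J)).app V.1 (InvX.tmul y e) =
        InvX.tmul (((itw L n).map (ClSub.idealModι J)).app V.1 y) e := fun y =>
      AmpleVan.map_tmul_left _ y e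
    refine ⟨fun z => ?_, fun a ha => ?_⟩
    · obtain ⟨y, hy⟩ := (Eg2Twist.bijective_tmul_frame (M := (itw L n).obj (ClSub.idealMod J)) he le_rfl).2 z
      dsimp only at hy
      rw [AModX.res_self] at hy
      obtain ⟨a, ha, hay⟩ := ih.1 y
      refine ⟨a, ha, ?_⟩
      subst hy
      rw [key, hay, InvX.tmul_smul_left]
      rfl
    · obtain ⟨y, hy⟩ := ih.2 a ha
      refine ⟨InvX.tmul y e, ?_⟩
      rw [key, hy, InvX.tmul_smul_left]
      rfl

variable (L) in
/-- The system of powers of `L` with the operators `σ`. -/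
abbrev powL : FFun.Gen.Sys X r := twSys hL σ (Coh.structureModule X)

variable {σ I} {V : X.affineOpens} {e : Γ(L, V.1)} {g : Fin r → Γ(X, V.1)}
  (hg : ∀ j, AModX.res L (le_top : V.1 ≤ ⊤) (σ j) = g j • e) (hI : I.ideal V = Ideal.span (Set.range g))

include hg in
theorem powL_t_app (n : ℕ) (j : Fin r) (a : Γ(X, V.1)) :
    ((powL L hL σ).t n j).app V.1 (a • frm e n) = (a * g j) • frm e (n + 1) := by
  show (mulSec (σ j) ((itw L n).obj (Coh.structureModule X))).app V.1 (a • frm e n) = _
  rw [AmpleVan.mulSec_app, hg, InvX.tmul_smul_left, InvX.tmul_smul_right, ← mul_smul]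
  rfl

include hg hI in
theorem word_app_mem : ∀ (n : ℕ) (s : Sym (Fin r) n) (t : Γ(Coh.structureModule X, V.1)),
    ∃ a ∈ (I ^ n).ideal V, ((powL L hL σ).word n s).app V.1 t = a • frm e n := by
  intro n
  induction n with
  | zero =>
    intro s t
    refine ⟨(show Γ(X, V.1) from t), ?_, ?_⟩
    · rw [Scheme.IdealSheafData.ideal_pow, Pi.pow_apply, pow_zero, Ideal.one_eq_top]; trivial
    · rw [smul_frm_zero]; rfl
  | succ n ih =>
    intro s t
    obtain ⟨i, hi⟩ := Sym.exists_mem s
    obtain ⟨s', rfl⟩ := Sym.exists_cons_of_mem hi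
    obtain ⟨a, ha, hat⟩ := ih s' t
    refine ⟨a * g i, ?_, ?_⟩
    · rw [Scheme.IdealSheafData.ideal_pow, Pi.pow_apply] at ha ⊢
      rw [pow_succ]
      exact Ideal.mul_mem_mul ha (hI ▸ Ideal.subset_span ⟨i, rfl⟩)
    · rw [FFun.Gen.Sys.word_cons, Scheme.Modules.Hom.comp_app]
      exact (congrArg (((powL L hL σ).t n i).app V.1) hat).trans (powL_t_app hL hg n i a)

include hg hI in
theorem exists_aug_app : ∀ (n : ℕ), ∀ a ∈ (I ^ n).ideal V,
    ∃ y, ((powL L hL σ).aug n).app V.1 y = a • frm e n := by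
  intro n
  induction n with
  | zero =>
    intro a _
    refine ⟨(biproduct.ι (fun _ : ULift.{u} (Sym (Fin r) 0) => Coh.structureModule X) ⟨Sym.nil⟩).app V.1
      (show Γ(Coh.structureModule X, V.1) from a), ?_⟩
    rw [smul_frm_zero]
    exact congr(($(biproduct.ι_desc (fun s : ULift.{u} (Sym (Fin r) 0) => (powL L hL σ).word 0 s.down) ⟨Sym.nil⟩)).app
      V.1 (show Γ(Coh.structureModule X, V.1) from a))
  | succ n ih =>
    let φ := ((powL L hL σ).aug (n + 1)).app V.1
    let T : Ideal Γ(X, V.1) :=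
      { carrier := {a | ∃ y, φ y = a • frm e (n + 1)}
        zero_mem' := ⟨0, by rw [map_zero, zero_smul]⟩
        add_mem' := fun {a b} ⟨y, hy⟩ ⟨z, hz⟩ => ⟨y + z, by rw [map_add, hy, hz, add_smul]⟩
        smul_mem' := fun c a ⟨y, hy⟩ => ⟨c • y, by
          rw [smul_eq_mul, mul_smul, ← hy]; exact Scheme.Modules.Hom.app_smul _ _ _⟩ }
    intro a ha
    rw [Scheme.IdealSheafData.ideal_pow, Pi.pow_apply, pow_succ] at ha
    refine (Ideal.mul_le.2 fun b hb c hc => ?_ : _ ≤ T) ha
    rw [hI] at hc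
    induction hc using Submodule.span_induction with
    | mem c hc =>
      obtain ⟨j, rfl⟩ := hc
      obtain ⟨y, hy⟩ := ih b (by rwa [Scheme.IdealSheafData.ideal_pow, Pi.pow_apply])
      refine ⟨((FFun.Gen.Sys.free ((powL L hL σ).G 0) r).t n j).app V.1 y, ?_⟩
      refine (congr(($((powL L hL σ).aug_comm n j)).app V.1 y)).trans ?_
      exact (congrArg (((powL L hL σ).t n j).app V.1) hy).trans (powL_t_app hL hg n j b)
    | zero => rw [mul_zero]; exact zero_mem T
    | add x y _ _ hx hy => rw [mul_add]; exact add_mem hx hy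
    | smul c x _ hx => rw [smul_eq_mul, mul_left_comm]; exact T.mul_mem_left c hx

variable (I σ) in
/-- The terms of the subsystem are the twisted powers of `I`. -/
theorem nonempty_imgSys_iso (h : GenNear σ I) (n : ℕ) :
    Nonempty ((imgSys (powL L hL σ)).G n ≅ (itw L n).obj (ClSub.idealMod (I ^ n))) := by
  let S := powL L hL σ
  let b := (itw L n).map (ClSub.idealModι (I ^ n))
  haveI : ∀ m, (itw L m).PreservesMonomorphisms := fun m => by
    induction m with
    | zero => exact inferInstanceAs (𝟭 X.Modules).PreservesMonomorphisms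
    | succ m ih =>
      haveI := AmpleVan.isEquivalence_tw hL
      exact inferInstanceAs (itw L m ⋙ tw L).PreservesMonomorphisms
  haveI : Mono (ClSub.idealModι (I ^ n)) := inferInstanceAs (Mono (kernel.ι (ClSub.toSubscheme (I ^ n))))
  haveI : Mono b := (itw L n).map_mono _
  let a := Abelian.image.ι (S.aug n)
  have h1 : a ≫ cokernel.π b = 0 := by
    refine (cancel_epi (Abelian.factorThruImage (S.aug n))).1 (Eq.trans ?_ comp_zero.symm)
    rw [← Category.assoc]
    refine (congrArg (· ≫ cokernel.π b) (Abelian.image.fac (S.aug n))).trans ?_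
    refine biproduct.hom_ext' _ _ fun s => ?_
    rw [FFun.Gen.Sys.aug, biproduct.ι_desc_assoc, comp_zero]
    refine QCoh.hom_ext_app fun U t => AModX.eq_of_locally _ _ fun p hp => ?_
    obtain ⟨V, hpV, hVU, e, he, g, hg, hI⟩ := h U p hp
    refine ⟨V.1, hVU, hpV, ?_⟩
    rw [← AModX.app_res, ← AModX.app_res, Scheme.Modules.Hom.comp_app]
    obtain ⟨c, hc, hw⟩ := word_app_mem hL hg hI n s.down (AModX.res (Coh.structureModule X) hVU t)
    obtain ⟨z, hz⟩ := (map_idealModι_app (I ^ n) V he n).2 c hc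
    exact ((congrArg ((cokernel.π b).app V.1) (hw.trans hz.symm))).trans
      (congr(($(cokernel.condition b)).app V.1 z))
  have h2 : b ≫ cokernel.π a = 0 := by
    refine QCoh.hom_ext_app fun U t => AModX.eq_of_locally _ _ fun p hp => ?_
    obtain ⟨V, hpV, hVU, e, he, g, hg, hI⟩ := h U p hp
    refine ⟨V.1, hVU, hpV, ?_⟩
    rw [← AModX.app_res, ← AModX.app_res, Scheme.Modules.Hom.comp_app]
    obtain ⟨c, hc, hw⟩ := (map_idealModι_app (I ^ n) V he n).1 (AModX.res _ hVU t)
    obtain ⟨y, hy⟩ := exists_aug_app hL hg hI n c hc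
    have e2 : S.aug n ≫ cokernel.π a = 0 :=
      (congrArg (· ≫ cokernel.π a) (Abelian.image.fac (S.aug n)).symm).trans ((Category.assoc _ _ _).trans
        ((congrArg (Abelian.factorThruImage (S.aug n) ≫ ·) (cokernel.condition a)).trans comp_zero))
    exact (congrArg ((cokernel.π a).app V.1) (hw.trans hy.symm)).trans (congr(($e2).app V.1 y))
  let u := Abelian.monoLift b a h1
  let v := Abelian.monoLift a b h2
  have hu : u ≫ b = a := Abelian.monoLift_comp _ _ _
  have hv : v ≫ a = b := Abelian.monoLift_comp _ _ _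
  exact ⟨⟨u, v, (cancel_mono a).1 (by rw [Category.assoc, hv, hu, Category.id_comp]),
    (cancel_mono b).1 (by rw [Category.assoc, hu, hv, Category.id_comp])⟩⟩

include hL in
/-- Uniform vanishing for twisted powers of an ideal generated by sections of a twist. -/
theorem exists_uniform_vanishing_pow {A : Type u} [CommRing A] [IsNoetherianRing A]
    [X.Over (Spec (CommRingCat.of A))] [IsProper (X ↘ Spec (CommRingCat.of A))] {H : X.Modules}
    (hH : CohB1.IsAmple H) (hcoh : ∀ n, Coh.IsCoh (ClSub.idealMod (I ^ n))) (h : GenNear σ I) :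
    ∃ m₀, ∀ m, m₀ ≤ m → ∀ n q, Subsingleton (Coh.HH X
      (CohB1.tensorMod ((itw L n).obj (ClSub.idealMod (I ^ n))) (CohB1.tensorPow H m)) (q + 1)) := by
  haveI : IsLocallyNoetherian X := LocallyOfFiniteType.isLocallyNoetherian (X ↘ Spec (CommRingCat.of A))
  have hS : ∀ n, Coh.IsCoh ((imgSys (powL L hL σ)).G n) := fun n =>
    CohGab92.isCoh_of_iso (nonempty_imgSys_iso hL σ I h n).some.symm (AmpleVan.isCoh_itw hL (hcoh n) n)
  obtain ⟨m₀, hm₀⟩ := AmpleVan.exists_uniform_vanishing (A := A) hH _ hS (genFrom_imgSys (powL L hL σ))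
  exact ⟨m₀, fun m hm n q => QCoh.subsingleton_HH_of_iso
    (((AmpleVan.tw (CohB1.tensorPow H m)).mapIso (nonempty_imgSys_iso hL σ I h n).some)) _ (hm₀ m hm n q)⟩

end Powers

end Groth.Agent.VarReg31
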